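/-
Semilinear maps over algebraically closed fields of positive characteristic: fixed vectors span.
-/
import Mathlib

set_option autoImplicit false

namespace Cfsg.Agent.Lib.Lang52

open Polynomial

variable {K : Type*} [Field K]

/-- The coefficient polynomials of the fixed-vector recursion. -/
noncomputable def recPoly (q : ℕ) (a : ℕ → K) : ℕ → K[X]
  | 0 => C (a 0) * X ^ q
  | i + 1 => recPoly q a i ^ q + C (a (i + 1)) * X ^ q

theorem derivative_recPoly {q : ℕ} (hq : (q : K) = 0) (a : ℕ → K) :
    ∀ i, derivative (recPoly q a i) = 0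
  | 0 => by simp [recPoly, derivative_X_pow, hq]
  | i + 1 => by simp [recPoly, derivative_X_pow, derivative_pow, hq]

theorem recPoly_degree {q : ℕ} (hq : 2 ≤ q) (a : ℕ → K) :
    ∀ i, (recPoly q a i = 0 ∧ ∀ j ≤ i, a j = 0) ∨ q ≤ (recPoly q a i).natDegree
  | 0 => by
    rcases eq_or_ne (a 0) 0 with h | h
    · exact Or.inl ⟨by simp [recPoly, h], fun j hj => by rw [Nat.le_zero.1 hj, h]⟩
    · exact Or.inr (by rw [recPoly, natDegree_C_mul_X_pow _ _ h])
  | i + 1 => by
    rcases recPoly_degree hq a i with ⟨h0, hz⟩ | hd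
    · rcases eq_or_ne (a (i + 1)) 0 with h | h
      · refine Or.inl ⟨by simp [recPoly, h0, h, zero_pow (by omega : q ≠ 0)], fun j hj => ?_⟩
        rcases Nat.lt_or_ge j (i + 1) with hlt | hge
        · exact hz j (by omega)
        · rw [show j = i + 1 by omega, h]
      · exact Or.inr (by rw [recPoly, h0, zero_pow (by omega : q ≠ 0), zero_add, natDegree_C_mul_X_pow _ _ h])
    · refine Or.inr ?_
      have h1 : (C (a (i + 1)) * X ^ q).natDegree ≤ q := natDegree_C_mul_X_pow_le _ _
      have h2 : (recPoly q a i ^ q).natDegree = q * (recPoly q a i).natDegree := natDegree_pow _ _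
      have h3 : 2 * q ≤ q * (recPoly q a i).natDegree := by nlinarith
      rw [recPoly, natDegree_add_eq_left_of_natDegree_lt (by omega), h2]
      omega

/-- Artin–Schreier equations are solvable. -/
theorem exists_sub_eq [IsAlgClosed K] {q : ℕ} (hq : 2 ≤ q) (c : K) : ∃ d : K, d ^ q - d = c := by
  have hn : (X ^ q - X - C c).natDegree = q := by
    rw [natDegree_sub_C, natDegree_sub_eq_left_of_natDegree_lt (by rw [natDegree_X_pow, natDegree_X]; omega),
      natDegree_X_pow]
  have hne : X ^ q - X - C c ≠ 0 := fun h => by rw [h, natDegree_zero] at hn; omega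
  obtain ⟨d, hd⟩ := IsAlgClosed.exists_root (X ^ q - X - C c)
    (fun h => by
      have := natDegree_eq_zero_iff_degree_le_zero.2 h.le
      omega)
  simp [IsRoot.def] at hd
  exact ⟨d, by linear_combination hd⟩

variable {σ : K →+* K} {V : Type*} [AddCommGroup V] [Module K V] [FiniteDimensional K V]

/-- An injective `q`-semilinear map of a non-zero space fixes a non-zero vector. -/
theorem exists_fixed [IsAlgClosed K] {q : ℕ} (hq : 2 ≤ q) (hq0 : (q : K) = 0)
    (hσ : ∀ x, σ x = x ^ q) (Φ : V →ₛₗ[σ] V) (hΦ : Function.Injective Φ) {v : V} (hv : v ≠ 0) :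
    ∃ w, w ≠ 0 ∧ Φ w = w := by
  classical
  let e : ℕ → V := fun i => (⇑Φ)^[i] v
  have hex : ∃ r, ¬ LinearIndependent K (fun i : Fin (r + 1) => e i) :=
    ⟨Module.finrank K V, fun h => by
      have := h.fintype_card_le_finrank
      simp at this⟩
  obtain ⟨s, hs⟩ : ∃ s, Nat.find hex = s + 1 := by
    refine ⟨Nat.find hex - 1, (Nat.sub_add_cancel (Nat.one_le_iff_ne_zero.2 fun h0 => ?_)).symm⟩
    have := Nat.find_spec hex
    rw [h0] at this
    refine this (Fintype.linearIndependent_iff.2 fun g hg i => ?_)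
    obtain rfl : i = 0 := Subsingleton.elim (α := Fin 1) _ _
    have h1 : g 0 • v = 0 := by simpa [e] using hg
    exact (smul_eq_zero.1 h1).resolve_right hv
  have hdep := Nat.find_spec hex
  rw [hs] at hdep
  have hind : LinearIndependent K (fun i : Fin (s + 1) => e i) :=
    not_not.1 (Nat.find_min hex (show s < Nat.find hex by omega))
  have hmem : e (s + 1) ∈ Submodule.span K (Set.range fun i : Fin (s + 1) => e i) := by
    by_contra hn
    apply hdep
    rw [show (fun i : Fin (s + 1 + 1) => e i) = Fin.snoc (fun i : Fin (s + 1) => e i) (e (s + 1)) from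
      funext fun i => by cases i using Fin.lastCases <;> simp]
    exact linearIndependent_finSnoc.2 ⟨hind, hn⟩
  obtain ⟨c, hc⟩ := (Submodule.mem_span_range_iff_exists_fun K).1 hmem
  let a : ℕ → K := fun i => if h : i < s + 1 then c ⟨i, h⟩ else 0
  have ha : e (s + 1) = ∑ i ∈ Finset.range (s + 1), a i • e i := by
    rw [← hc, Finset.sum_range]
    exact Finset.sum_congr rfl fun i _ => by simp only [a, Fin.is_lt, dite_true, Fin.eta]
  have hne : ∀ i, e i ≠ 0 := by
    intro i
    induction i with
    | zero => exact hv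
    | succ i ih =>
      show (⇑Φ)^[i + 1] v ≠ 0
      rw [Function.iterate_succ_apply']
      exact fun h => ih (hΦ (h.trans Φ.map_zero.symm))
  have hnz : ¬ (∀ j ≤ s, a j = 0) := fun h => hne (s + 1) (by
    rw [ha]
    exact Finset.sum_eq_zero fun i hi => by rw [h i (by simp at hi; omega), zero_smul])
  set P := recPoly q a s - X with hP
  have hdeg : q ≤ (recPoly q a s).natDegree := (recPoly_degree hq a s).resolve_left fun h => hnz h.2
  have hPdeg : 2 ≤ P.natDegree := by
    rw [hP, natDegree_sub_eq_left_of_natDegree_lt (by rw [natDegree_X]; omega)]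
    omega
  have hsep : P.Separable := by
    rw [separable_def, hP, derivative_sub, derivative_recPoly hq0, derivative_X, zero_sub]
    exact isCoprime_one_right.neg_right
  have hroots : P.roots.card = P.natDegree := by
    rw [← (IsAlgClosed.splits P).natDegree_eq_card_roots]
  obtain ⟨t, ht, ht0⟩ : ∃ t, t ∈ P.roots ∧ t ≠ 0 := by
    by_contra hc'
    push Not at hc'
    have hnd := nodup_roots hsep
    have h1 : P.roots.toFinset ⊆ {0} := fun t ht => by simpa using hc' t (by simpa using ht)
    have := Finset.card_le_card h1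
    rw [Multiset.toFinset_card_of_nodup hnd, hroots] at this
    simp at this
    omega
  have hts : (recPoly q a s).eval t = t := by
    have := (mem_roots'.1 ht).2
    rw [hP, IsRoot.def, eval_sub, eval_X, sub_eq_zero] at this
    exact this
  let x : ℕ → K := fun i => (recPoly q a i).eval t
  refine ⟨∑ i ∈ Finset.range (s + 1), x i • e i, fun h0 => ?_, ?_⟩
  · rw [Finset.sum_range] at h0
    have := Fintype.linearIndependent_iff.1 hind (fun i => x i) h0 ⟨s, by omega⟩
    exact ht0 (hts.symm.trans this)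
  · have he : ∀ i, Φ (e i) = e (i + 1) := fun i => (Function.iterate_succ_apply' (⇑Φ) i v).symm
    rw [map_sum]
    simp only [LinearMap.map_smulₛₗ, hσ, he]
    rw [Finset.sum_range_succ, show x s = t from hts, ha, Finset.smul_sum]
    simp only [smul_smul]
    rw [Finset.sum_range_succ' (fun i => (t ^ q * a i) • e i), ← add_assoc, ← Finset.sum_add_distrib,
      Finset.sum_range_succ' (fun i => x i • e i)]
    congr 1
    · refine Finset.sum_congr rfl fun i _ => ?_
      rw [← add_smul]
      congr 1
      simp only [x, recPoly, eval_add, eval_pow, eval_mul, eval_C, eval_X]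
      ring
    · congr 1
      simp only [x, recPoly, eval_mul, eval_C, eval_pow, eval_X]
      ring

/-- The fixed vectors of an injective `q`-semilinear map span. -/
theorem span_fixed [IsAlgClosed K] {q : ℕ} (hq : 2 ≤ q) (hq0 : (q : K) = 0)
    (hσ : ∀ x, σ x = x ^ q) (Φ : V →ₛₗ[σ] V) (hΦ : Function.Injective Φ) :
    Submodule.span K {w | Φ w = w} = ⊤ := by
  set W := Submodule.span K {w | Φ w = w} with hW
  by_contra htop
  have hW' : W ≤ W.comap Φ := Submodule.span_le.2 fun w hw => by
    show Φ w ∈ W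
    rw [hw.out]
    exact Submodule.subset_span hw
  have hsurj : ∀ u ∈ W, ∃ u' ∈ W, Φ u' = u := by
    intro u hu
    induction hu using Submodule.span_induction with
    | mem w hw => exact ⟨w, Submodule.subset_span hw, hw⟩
    | zero => exact ⟨0, W.zero_mem, map_zero _⟩
    | add u₁ u₂ _ _ h₁ h₂ =>
      obtain ⟨a, ha, rfl⟩ := h₁
      obtain ⟨b, hb, rfl⟩ := h₂
      exact ⟨a + b, W.add_mem ha hb, map_add _ _ _⟩
    | smul c u _ h =>
      obtain ⟨a, ha, rfl⟩ := h
      obtain ⟨d, hd⟩ := IsAlgClosed.exists_pow_nat_eq c (show 0 < q by omega)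
      exact ⟨d • a, W.smul_mem d ha, by rw [LinearMap.map_smulₛₗ, hσ, hd]⟩
  let Ψ : V ⧸ W →ₛₗ[σ] V ⧸ W := W.mapQ W Φ hW'
  have hΨ : Function.Injective Ψ := by
    rw [injective_iff_map_eq_zero]
    intro u hu
    obtain ⟨u, rfl⟩ := Submodule.Quotient.mk_surjective W u
    have h1 : Φ u ∈ W := (Submodule.Quotient.mk_eq_zero W).1 hu
    obtain ⟨u', hu', he⟩ := hsurj _ h1
    exact (Submodule.Quotient.mk_eq_zero W).2 (hΦ he ▸ hu')
  obtain ⟨v, hv⟩ : ∃ v, v ∉ W := by
    by_contra hc
    push Not at hc
    exact htop (eq_top_iff.2 fun x _ => hc x)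
  obtain ⟨w, hw0, hw⟩ := exists_fixed hq hq0 hσ Ψ hΨ
    (v := Submodule.Quotient.mk v) fun h => hv ((Submodule.Quotient.mk_eq_zero W).1 h)
  obtain ⟨w, rfl⟩ := Submodule.Quotient.mk_surjective W w
  have hd : Φ w - w ∈ W := (Submodule.Quotient.eq W).1 hw
  have hlift : ∀ u ∈ W, ∀ c : K, ∃ y ∈ W, Φ y - y = c • u := by
    intro u hu
    induction hu using Submodule.span_induction with
    | mem z hz =>
      intro c
      obtain ⟨d, hd'⟩ := exists_sub_eq hq c
      refine ⟨d • z, W.smul_mem d (Submodule.subset_span hz), ?_⟩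
      rw [LinearMap.map_smulₛₗ, hσ, hz.out, ← sub_smul, hd']
    | zero => exact fun c => ⟨0, W.zero_mem, by simp⟩
    | add u₁ u₂ _ _ h₁ h₂ =>
      intro c
      obtain ⟨a, ha, ea⟩ := h₁ c
      obtain ⟨b, hb, eb⟩ := h₂ c
      exact ⟨a + b, W.add_mem ha hb, by rw [map_add, smul_add, ← ea, ← eb]; abel⟩
    | smul c' u _ h =>
      intro c
      obtain ⟨a, ha, ea⟩ := h (c * c')
      exact ⟨a, ha, by rw [ea, smul_smul]⟩
  obtain ⟨y, hy, hyd⟩ := hlift _ hd 1
  rw [one_smul] at hyd
  apply hw0
  rw [Submodule.Quotient.mk_eq_zero]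
  have hfix : Φ (w - y) = w - y := by
    have e : Φ (w - y) = Φ w - Φ y := map_sub _ _ _
    rw [e]
    linear_combination (norm := abel) -hyd
  have := W.add_mem (Submodule.subset_span (s := {w | Φ w = w}) hfix) hy
  rwa [sub_add_cancel] at this

end Cfsg.Agent.Lib.Lang52
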